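import Mathlib.RingTheory.AlgebraicIndependent.TranscendenceBasis
import Mathlib.RingTheory.Algebraic.Integral
import Mathlib.RingTheory.TensorProduct.MvPolynomial
import Mathlib.RingTheory.Flat.Stability
import Mathlib.RingTheory.Flat.TorsionFree
import Mathlib.RingTheory.Ideal.AssociatedPrime.Localization
import Mathlib.RingTheory.Ideal.GoingDown
import Mathlib.RingTheory.TensorProduct.Quotient
import Groth.Agent.CAlgAssTensor.Basic

/-!
# Associated primes of tensor products over a field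
-/

set_option autoImplicit false
set_option linter.unusedSectionVars false

universe u

open TensorProduct

namespace Groth.Agent.AssField

variable {k : Type u} [Field k]

/-- Nonzero elements of a domain `A₀ ⊗ B` are nonzerodivisors after a flat extension of `A₀`. -/
theorem map_mem_nonZeroDivisors_of_flat {A₀ K B : Type u} [CommRing A₀] [CommRing K] [CommRing B]
    [Algebra k A₀] [Algebra k K] [Algebra k B] [Algebra A₀ K] [IsScalarTower k A₀ K]
    [Module.Flat A₀ K] [IsDomain (A₀ ⊗[k] B)] (c : A₀ ⊗[k] B) (hc : c ≠ 0) :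
    Algebra.TensorProduct.map (IsScalarTower.toAlgHom k A₀ K) (AlgHom.id k B) c ∈
      nonZeroDivisors (K ⊗[k] B) := by
  let e : K ⊗[A₀] (A₀ ⊗[k] B) ≃ₗ[A₀] K ⊗[k] B :=
    TensorProduct.AlgebraTensorModule.cancelBaseChange k A₀ A₀ K B
  let m : A₀ ⊗[k] B →ₗ[A₀] A₀ ⊗[k] B := LinearMap.mulLeft A₀ c
  have hm : Function.Injective (m.lTensor K) :=
    Module.Flat.lTensor_preserves_injective_linearMap _ (mul_right_injective₀ hc)
  let φ := Algebra.TensorProduct.map (IsScalarTower.toAlgHom k A₀ K) (AlgHom.id k B)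
  have hmul : ∀ (c r : A₀ ⊗[k] B) (a : K), e (a ⊗ₜ[A₀] (c * r)) = φ c * e (a ⊗ₜ[A₀] r) := by
    intro c r a
    induction r with
    | zero => simp
    | add r r' hr hr' => rw [mul_add, tmul_add, map_add, hr, hr', tmul_add, map_add, mul_add]
    | tmul a₁ b =>
      induction c with
      | zero => simp
      | add c c' h h' => rw [add_mul, tmul_add, map_add, h, h', map_add, add_mul]
      | tmul a₂ b' =>
        simp [e, φ, Algebra.smul_def, mul_assoc]
  have key : ∀ z, e (m.lTensor K z) = φ c * e z := by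
    intro z
    induction z with
    | zero => rw [map_zero, map_zero, mul_zero]
    | add a b ha hb => rw [map_add, map_add, ha, hb, map_add, mul_add]
    | tmul a r => exact hmul c r a
  refine mem_nonZeroDivisors_iff_right.2 fun y hy => ?_
  obtain ⟨z, rfl⟩ := e.surjective y
  have h0 : m.lTensor K z = 0 := e.injective (by rw [key, mul_comm, map_zero]; exact hy)
  rw [hm (h0.trans (map_zero _).symm), map_zero]

set_option synthInstance.maxHeartbeats 400000 in
/-- In the tensor product of two domains over a field a prime made of zero divisors is minimal, and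
meets both domains in zero. -/
theorem minimal_of_zeroDivisors {A B : Type u} [CommRing A] [CommRing B] [IsDomain A] [IsDomain B]
    [Algebra k A] [Algebra k B] {P : Ideal (A ⊗[k] B)} [P.IsPrime]
    (hP : ∀ x ∈ P, x ∉ nonZeroDivisors (A ⊗[k] B)) :
    P ∈ minimalPrimes (A ⊗[k] B) ∧
      P.comap (Algebra.TensorProduct.includeLeft : A →ₐ[k] A ⊗[k] B).toRingHom = ⊥ := by
  classical
  constructor
  swap
  · rw [eq_bot_iff]
    intro a ha
    rw [Ideal.mem_bot]
    by_contra hne
    refine hP _ ha (mem_nonZeroDivisors_iff_right.2 fun y hy => ?_)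
    have hinj : Function.Injective (LinearMap.rTensor B (LinearMap.mulLeft k a)) :=
      Module.Flat.rTensor_preserves_injective_linearMap _ (mul_right_injective₀ hne)
    refine hinj (Eq.trans ?_ (map_zero _).symm)
    have hc : ∀ z : A ⊗[k] B, LinearMap.rTensor B (LinearMap.mulLeft k a) z =
        z * (a ⊗ₜ 1) := fun z => by
      induction z with
      | zero => simp
      | add p q hp hq => rw [map_add, hp, hq, add_mul]
      | tmul p q => simp [mul_comm a]
    rw [hc]; exact hy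
  obtain ⟨ι, x, hx⟩ := exists_isTranscendenceBasis' k A
  let A₀ := Algebra.adjoin k (Set.range x)
  haveI : IsDomain (A₀ ⊗[k] B) := by
    let e : A₀ ⊗[k] B ≃+* MvPolynomial ι B :=
      ((Algebra.TensorProduct.comm k A₀ B).trans
        ((Algebra.TensorProduct.congr AlgEquiv.refl hx.1.aevalEquiv.symm).trans
          ((MvPolynomial.algebraTensorAlgEquiv (R := k) (σ := ι) (A := B)).restrictScalars k))).toRingEquiv
    exact e.toMulEquiv.isDomain _
  let φ : A₀ ⊗[k] B →ₐ[k] A ⊗[k] B := Algebra.TensorProduct.map A₀.val (AlgHom.id k B)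
  -- nonzero elements act injectively, as seen in `Frac A ⊗ B`
  let K := FractionRing A
  letI : Algebra (FractionRing A₀) K := FractionRing.liftAlgebra A₀ K
  haveI : Module.Flat A₀ (FractionRing A₀) := IsLocalization.flat _ (nonZeroDivisors A₀)
  haveI : Module.Flat A₀ K := Module.Flat.trans A₀ (FractionRing A₀) K
  let j : A →ₐ[k] K := IsScalarTower.toAlgHom k A K
  let ι' : A ⊗[k] B →ₐ[k] K ⊗[k] B := Algebra.TensorProduct.map j (AlgHom.id k B)
  have hι : Function.Injective ι' :=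
    Module.Flat.rTensor_preserves_injective_linearMap j.toLinearMap (IsFractionRing.injective A K)
  have hnzd : ∀ c : A₀ ⊗[k] B, c ≠ 0 → φ c ∈ nonZeroDivisors (A ⊗[k] B) := by
    intro c hc
    have h : ι' (φ c) = Algebra.TensorProduct.map (IsScalarTower.toAlgHom k A₀ K) (AlgHom.id k B) c := by
      rw [← AlgHom.comp_apply, ← Algebra.TensorProduct.map_comp]
      rfl
    exact mem_nonZeroDivisors_of_injective hι (h ▸ map_mem_nonZeroDivisors_of_flat (K := K) c hc)
  -- algebraicity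
  letI : Algebra (A₀ ⊗[k] B) (A ⊗[k] B) := φ.toRingHom.toAlgebra
  have hA : Algebra.IsAlgebraic A₀ A := hx.isAlgebraic
  refine ⟨⟨inferInstance, bot_le⟩, fun Q hQ hle => ?_⟩
  haveI := hQ.1
  by_contra hne
  obtain ⟨p, hpP, hpQ⟩ := Set.not_subset.1 hne
  let C := (A ⊗[k] B) ⧸ Q
  let ψ : A₀ ⊗[k] B →+* C := (Ideal.Quotient.mk Q).comp φ.toRingHom
  have hψ : Function.Injective ψ := by
    rw [injective_iff_map_eq_zero]
    intro c hc
    by_contra hc0
    exact hP (φ c) (hle (Ideal.Quotient.eq_zero_iff_mem.1 hc)) (hnzd c hc0)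
  letI := ψ.toAlgebra
  have halg : ∀ z : A ⊗[k] B, IsAlgebraic (A₀ ⊗[k] B) (Ideal.Quotient.mk Q z) := by
    intro z
    induction z with
    | zero => rw [map_zero]; exact isAlgebraic_zero
    | add a b ha hb => rw [map_add]; exact ha.add hb
    | tmul a b =>
      rw [show a ⊗ₜ[k] b = (a ⊗ₜ[k] 1) * φ ((1 : A₀) ⊗ₜ[k] b) by simp [φ], map_mul]
      refine IsAlgebraic.mul ?_ (isAlgebraic_algebraMap _)
      obtain ⟨q, hq, hqa⟩ := hA.1 a
      refine ⟨q.map (Algebra.TensorProduct.includeLeftRingHom : A₀ →+* A₀ ⊗[k] B), ?_, ?_⟩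
      · exact (Polynomial.map_ne_zero_iff
          (Algebra.TensorProduct.includeLeft_injective (R := k) (S := k) (algebraMap k B).injective)).2 hq
      · rw [Polynomial.aeval_def, Polynomial.eval₂_map]
        have h1 : ((algebraMap (A₀ ⊗[k] B) C).comp Algebra.TensorProduct.includeLeftRingHom) =
            ((Ideal.Quotient.mk Q).comp Algebra.TensorProduct.includeLeftRingHom).comp (algebraMap A₀ A) := by
          ext a₀
          simp [RingHom.algebraMap_toAlgebra, ψ, φ]
        rw [h1, show Ideal.Quotient.mk Q (a ⊗ₜ[k] 1) =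
          ((Ideal.Quotient.mk Q).comp Algebra.TensorProduct.includeLeftRingHom) a from rfl,
          ← Polynomial.hom_eval₂, ← Polynomial.aeval_def, hqa, map_zero]
  obtain ⟨r, hr, hdvd⟩ := (halg p).exists_nonzero_dvd (mem_nonZeroDivisors_of_ne_zero
    (fun h => hpQ (Ideal.Quotient.eq_zero_iff_mem.1 h)))
  refine hP (φ r) ?_ (hnzd r hr)
  obtain ⟨w, hw⟩ := hdvd
  obtain ⟨w, rfl⟩ := Ideal.Quotient.mk_surjective w
  have : φ r - p * w ∈ Q := by
    rw [← Ideal.Quotient.eq_zero_iff_mem, map_sub, map_mul, sub_eq_zero]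
    exact hw
  simpa using P.add_mem (hle this) (P.mul_mem_right w hpP)

/-- Associated primes consist of zero divisors. -/
theorem notMem_nonZeroDivisors_of_mem_associatedPrimes {R : Type u} [CommRing R] [IsNoetherianRing R]
    {P : Ideal R} (hP : P ∈ associatedPrimes R R) {x : R} (hx : x ∈ P) : x ∉ nonZeroDivisors R := by
  intro hnz
  have : x ∈ ⋃ p ∈ associatedPrimes R R, (p : Set R) := Set.mem_iUnion₂.2 ⟨P, hP, hx⟩
  rw [biUnion_associatedPrimes_eq_zero_divisors] at this
  obtain ⟨y, hy, hxy⟩ := this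
  exact hy (mem_nonZeroDivisors_iff_right.1 hnz y (by rw [mul_comm]; exact hxy))

/-- A tensor product of domains over a field has no embedded primes. -/
theorem associatedPrimes_subset_minimalPrimes (A B : Type u) [CommRing A] [CommRing B] [IsDomain A]
    [IsDomain B] [Algebra k A] [Algebra k B] [IsNoetherianRing (A ⊗[k] B)] :
    associatedPrimes (A ⊗[k] B) (A ⊗[k] B) ⊆ minimalPrimes (A ⊗[k] B) := fun P hP => by
  haveI := IsAssociatedPrime.isPrime hP
  exact (minimal_of_zeroDivisors fun x hx => notMem_nonZeroDivisors_of_mem_associatedPrimes hP hx).1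

/-- No embedded primes. -/
def NoEmb (R : Type u) [CommRing R] : Prop :=
  ∀ P ∈ associatedPrimes R R, ∀ Q ∈ associatedPrimes R R, P ≤ Q → P = Q

theorem noEmb_tensor (A B : Type u) [CommRing A] [CommRing B] [IsDomain A] [IsDomain B] [Algebra k A]
    [Algebra k B] [IsNoetherianRing (A ⊗[k] B)] : NoEmb (A ⊗[k] B) := fun P hP Q hQ hle => by
  haveI := IsAssociatedPrime.isPrime hP
  exact le_antisymm hle ((associatedPrimes_subset_minimalPrimes A B hQ).2 ⟨inferInstance, bot_le⟩ hle)

theorem noEmb_of_equiv {R S : Type u} [CommRing R] [CommRing S] (e : R ≃+* S) (h : NoEmb R) : NoEmb S := by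
  have key : ∀ P ∈ associatedPrimes S S, P.comap e.toRingHom ∈ associatedPrimes R R := by
    rintro P ⟨hP, m, hm⟩
    refine ⟨hP.comap _, e.symm m, ?_⟩
    have : ((⊥ : Submodule R R).colon {e.symm m}) = ((⊥ : Submodule S S).colon {m}).comap e.toRingHom := by
      ext r
      simp only [Ideal.mem_comap, Submodule.mem_colon_singleton, Submodule.mem_bot, smul_eq_mul]
      rw [← e.injective.eq_iff]
      simp
    rw [this, ← Ideal.comap_radical, ← hm]
  intro P hP Q hQ hle
  exact Ideal.comap_injective_of_surjective _ e.surjective (h _ (key P hP) _ (key Q hQ) (Ideal.comap_mono hle))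

section Field

variable (A K : Type u) [CommRing A] [IsNoetherianRing A] [Algebra k A] [Field K] [Algebra k K]
  [IsNoetherianRing (A ⊗[k] K)]

local notation "ιA" => algebraMap A (A ⊗[k] K)

/-- Minimal primes over `pB` for a prime `p`. -/
theorem comap_eq_of_zeroDivisors {p : Ideal A} [p.IsPrime] {Q : Ideal (A ⊗[k] K)}
    (hQ : Q ∈ associatedPrimes (A ⊗[k] K) ((A ⊗[k] K) ⧸ p.map ιA)) :
    Q ∈ (p.map ιA).minimalPrimes ∧ Q.comap ιA = p := by
  obtain ⟨hQp, m, hm⟩ := id hQ
  let π : A ⊗[k] K →ₐ[k] (A ⧸ p) ⊗[k] K :=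
    Algebra.TensorProduct.map (Ideal.Quotient.mkₐ k p) (AlgHom.id k K)
  have hπ : Function.Surjective π :=
    LinearMap.rTensor_surjective K (g := (Ideal.Quotient.mkₐ k p).toLinearMap) Ideal.Quotient.mk_surjective
  have hker : RingHom.ker π.toRingHom = p.map ιA :=
    (Algebra.TensorProduct.rTensor_ker (C := K) (Ideal.Quotient.mkₐ k p) Ideal.Quotient.mk_surjective).trans
      (by rw [show RingHom.ker (Ideal.Quotient.mkₐ k p) = p from Ideal.mk_ker]; rfl)
  have hle : p.map ιA ≤ Q := fun x hx => by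
    rw [hm]
    refine Ideal.le_radical (Submodule.mem_colon_singleton.2 ?_)
    rw [Submodule.mem_bot]
    obtain ⟨m, rfl⟩ := Ideal.Quotient.mk_surjective m
    exact Ideal.Quotient.eq_zero_iff_mem.2 (Ideal.mul_mem_right _ _ hx)
  haveI : (Q.map π.toRingHom).IsPrime := Ideal.map_isPrime_of_surjective hπ (hker.le.trans hle)
  have hcm : (Q.map π.toRingHom).comap π.toRingHom = Q :=
    (Ideal.comap_map_of_surjective _ hπ _).trans (sup_eq_left.2 (hker.le.trans hle))
  have hzd : ∀ x ∈ Q.map π.toRingHom, x ∉ nonZeroDivisors ((A ⧸ p) ⊗[k] K) := by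
    intro x hx hnz
    obtain ⟨a, ha, rfl⟩ := (Ideal.mem_map_iff_of_surjective _ hπ).1 hx
    obtain ⟨n, hn⟩ := (hm ▸ ha : a ∈ ((⊥ : Submodule (A ⊗[k] K) _).colon {m}).radical)
    rw [Submodule.mem_colon_singleton, Submodule.mem_bot] at hn
    obtain ⟨b, rfl⟩ := Ideal.Quotient.mk_surjective m
    have h1 : π (a ^ n * b) = 0 :=
      (show a ^ n * b ∈ RingHom.ker π.toRingHom from hker.ge (Ideal.Quotient.eq_zero_iff_mem.1 hn))
    rw [map_mul, map_pow] at h1
    have h2 : π b = 0 := mem_nonZeroDivisors_iff_right.1 (pow_mem hnz n) _ (by rw [mul_comm]; exact h1)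
    refine hQp.ne_top (Ideal.eq_top_iff_one _ |>.2 ?_)
    rw [hm]
    refine Ideal.le_radical (Submodule.mem_colon_singleton.2 ?_)
    rw [Submodule.mem_bot, one_smul]
    exact Ideal.Quotient.eq_zero_iff_mem.2 (hker.le h2)
  obtain ⟨hmin, hcont⟩ := minimal_of_zeroDivisors hzd
  refine ⟨⟨⟨hQp, hle⟩, fun J hJ hJQ => ?_⟩, ?_⟩
  · haveI := hJ.1
    haveI : (J.map π.toRingHom).IsPrime := Ideal.map_isPrime_of_surjective hπ (hker.le.trans hJ.2)
    rw [← hcm]
    exact (Ideal.comap_mono (hmin.2 ⟨inferInstance, bot_le⟩ (Ideal.map_mono hJQ))).trans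
      ((Ideal.comap_map_of_surjective _ hπ _).le.trans (sup_le le_rfl (hker.le.trans hJ.2)))
  · refine le_antisymm (fun a ha => ?_) (fun a ha => hle (Ideal.mem_map_of_mem _ ha))
    refine Ideal.Quotient.eq_zero_iff_mem.1 (Ideal.mem_bot.1 (hcont ▸ ?_))
    show (Ideal.Quotient.mk p a) ⊗ₜ[k] (1 : K) ∈ Q.map π.toRingHom
    exact Ideal.mem_map_of_mem π.toRingHom ha

theorem exists_ass_minimalPrime {Q : Ideal (A ⊗[k] K)}
    (hQ : Q ∈ associatedPrimes (A ⊗[k] K) (A ⊗[k] K)) :
    Q.comap ιA ∈ associatedPrimes A A ∧ Q ∈ ((Q.comap ιA).map ιA).minimalPrimes := by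
  have h := CAlgAssTensor.associatedPrimes_tensor (R := A) (M := A) (A ⊗[k] K) (A ⊗[k] K)
  rw [LinearEquiv.AssociatedPrimes.eq (AlgebraTensorModule.rid A (A ⊗[k] K) (A ⊗[k] K))] at h
  obtain ⟨p, hp, hQp⟩ := Set.mem_iUnion₂.1 (h ▸ hQ)
  haveI := IsAssociatedPrime.isPrime hp
  rw [show p.map ιA • (⊤ : Submodule (A ⊗[k] K) (A ⊗[k] K)) = p.map ιA from Ideal.mul_top _] at hQp
  obtain ⟨h1, h2⟩ := comap_eq_of_zeroDivisors A K hQp
  rw [h2]
  exact ⟨hp, h1⟩

theorem mem_ass_of_minimalPrime {p : Ideal A} (hp : p ∈ associatedPrimes A A) {Q : Ideal (A ⊗[k] K)}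
    (hQ : Q ∈ (p.map ιA).minimalPrimes) :
    Q ∈ associatedPrimes (A ⊗[k] K) (A ⊗[k] K) ∧ Q.comap ιA = p := by
  haveI := IsAssociatedPrime.isPrime hp
  have hQ' : Q ∈ associatedPrimes (A ⊗[k] K) ((A ⊗[k] K) ⧸ p.map ιA) :=
    Module.associatedPrimes.minimalPrimes_annihilator_subset_associatedPrimes _ _
      (by rwa [Ideal.annihilator_quotient])
  refine ⟨?_, (comap_eq_of_zeroDivisors A K hQ').2⟩
  have h := CAlgAssTensor.associatedPrimes_tensor (R := A) (M := A) (A ⊗[k] K) (A ⊗[k] K)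
  rw [LinearEquiv.AssociatedPrimes.eq (AlgebraTensorModule.rid A (A ⊗[k] K) (A ⊗[k] K))] at h
  rw [h]
  refine Set.mem_iUnion₂.2 ⟨p, hp, ?_⟩
  rw [show p.map ιA • (⊤ : Submodule (A ⊗[k] K) (A ⊗[k] K)) = p.map ιA from Ideal.mul_top _]
  exact hQ'

theorem noEmb_iff : NoEmb A ↔ NoEmb (A ⊗[k] K) := by
  constructor
  · intro h P hP Q hQ hle
    obtain ⟨hp, -⟩ := exists_ass_minimalPrime A K hP
    obtain ⟨hq, hQm⟩ := exists_ass_minimalPrime A K hQ
    have e := h _ hp _ hq (Ideal.comap_mono hle)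
    haveI := IsAssociatedPrime.isPrime hP
    exact le_antisymm hle (hQm.2 ⟨inferInstance, e ▸ Ideal.map_comap_le⟩ hle)
  · intro h p hp p' hp' hle
    haveI := IsAssociatedPrime.isPrime hp
    haveI := IsAssociatedPrime.isPrime hp'
    obtain ⟨z, hz⟩ := PrimeSpectrum.comap_surjective_of_faithfullyFlat (A := A) (B := A ⊗[k] K) ⟨p', inferInstance⟩
    have hz' : z.asIdeal.comap ιA = p' := congrArg PrimeSpectrum.asIdeal hz
    obtain ⟨Q', hQ', -⟩ := Ideal.exists_minimalPrimes_le (Ideal.map_le_iff_le_comap.2 hz'.ge)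
    obtain ⟨hQ'ass, hQ'c⟩ := mem_ass_of_minimalPrime A K hp' hQ'
    haveI := hQ'.1.1
    haveI : Q'.LiesOver p' := ⟨hQ'c.symm⟩
    obtain ⟨Q, hQle, hQp, hQo⟩ := Ideal.exists_ideal_le_liesOver_of_le (S := A ⊗[k] K) Q' hle (q := p')
    haveI := hQp
    obtain ⟨Q₁, hQ₁, hQ₁le⟩ := Ideal.exists_minimalPrimes_le (J := Q) (Ideal.map_le_iff_le_comap.2 hQo.over.le)
    obtain ⟨hQ₁ass, hQ₁c⟩ := mem_ass_of_minimalPrime A K hp hQ₁
    rw [← hQ₁c, h _ hQ₁ass _ hQ'ass (hQ₁le.trans hQle), hQ'c]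

end Field

end Groth.Agent.AssField
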