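import Groth.Agent.AssField.Basic
import Groth.Agent.AssPts.Structure
import Mathlib.AlgebraicGeometry.Pullbacks
import Mathlib.AlgebraicGeometry.Noetherian

/-!
# Schemes without embedded points and affine covers
-/

set_option autoImplicit false
set_option backward.isDefEq.respectTransparency false
set_option backward.isDefEq.respectTransparency.types false

universe u

open CategoryTheory CategoryTheory.Limits AlgebraicGeometry TensorProduct

namespace Groth.Agent.AssField

variable {X : Scheme.{u}}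

theorem mem_ass_structure_iff [IsLocallyNoetherian X] {V : X.Opens} (hV : IsAffineOpen V) {x : X} (hx : x ∈ V) :
    x ∈ AssSch.Ass (Coh.structureModule X) ↔
      (hV.primeIdealOf ⟨x, hx⟩).asIdeal ∈ associatedPrimes Γ(X, V) Γ(X, V) := by
  haveI := AssPts.isQuasicoherent_structureModule X
  haveI : IsNoetherianRing Γ(X, V) := IsLocallyNoetherian.component_noetherian ⟨V, hV⟩
  rw [AssPts.mem_ass_iff (Coh.structureModule X) hV x hx]
  rw [WeakAss.mem_ass_iff]
  refine Iff.trans ?_ (isAssociatedPrime_iff (R := Γ(X, V)) (M := Γ(X, V))).symm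
  refine and_congr Iff.rfl (exists_congr fun m => ?_)
  rw [SetLike.ext_iff]
  refine forall_congr' fun r => iff_congr Iff.rfl ?_
  rw [Submodule.mem_colon_singleton, Submodule.mem_bot]

theorem noEmbedded_of_noEmb [IsLocallyNoetherian X] (h : ∀ x : X, ∃ V : X.Opens, x ∈ V ∧
    IsAffineOpen V ∧ NoEmb Γ(X, V)) : AssSch.NoEmbedded (Coh.structureModule X) := by
  intro x hx y hy hyx
  obtain ⟨V, hxV, hV, hne⟩ := h x
  have hyV : y ∈ V := hyx.mem_open V.isOpen hxV
  have := hne _ ((mem_ass_structure_iff hV hyV).1 hy) _ ((mem_ass_structure_iff hV hxV).1 hx)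
    ((AssPts.specializes_iff hV x hxV hyV).1 hyx)
  exact ((hV.fromSpec_primeIdealOf ⟨x, hxV⟩).symm.trans ((congrArg hV.fromSpec (PrimeSpectrum.ext this.symm)).trans (hV.fromSpec_primeIdealOf ⟨y, hyV⟩)) : x = y)

theorem noEmb_of_noEmbedded [IsLocallyNoetherian X] (h : AssSch.NoEmbedded (Coh.structureModule X))
    {V : X.Opens} (hV : IsAffineOpen V) : NoEmb Γ(X, V) := by
  intro P hP Q hQ hle
  haveI := IsAssociatedPrime.isPrime hP
  haveI := IsAssociatedPrime.isPrime hQ
  obtain ⟨y, hy, rfl⟩ := AssPts.exists_point hV P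
  obtain ⟨x, hx, rfl⟩ := AssPts.exists_point hV Q
  obtain rfl := h x ((mem_ass_structure_iff hV hx).2 hQ) y ((mem_ass_structure_iff hV hy).2 hP)
    ((AssPts.specializes_iff hV x hx hy).2 hle)
  rfl

/-- Sections on the image of an affine open immersion. -/
noncomputable def rangeEquiv {R : CommRingCat.{u}} (j : Spec R ⟶ X) [IsOpenImmersion j] :
    R ≃+* Γ(X, j.opensRange) :=
  ((Scheme.ΓSpecIso R).symm ≪≫ (j.appIso ⊤).symm ≪≫ X.presheaf.mapIso (eqToIso j.image_top_eq_opensRange.symm).op).commRingCatIsoToRingEquiv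

theorem noEmbedded_iff_of_cover [IsLocallyNoetherian X] {ι : Type*} (R : ι → CommRingCat.{u})
    (j : ∀ i, Spec (R i) ⟶ X) [∀ i, IsOpenImmersion (j i)] (hj : ∀ x, ∃ i, x ∈ Set.range (j i)) :
    AssSch.NoEmbedded (Coh.structureModule X) ↔ ∀ i, NoEmb (R i) := by
  constructor
  · exact fun h i => noEmb_of_equiv (rangeEquiv (j i)).symm (noEmb_of_noEmbedded h (isAffineOpen_opensRange (j i)))
  · intro h
    refine noEmbedded_of_noEmb fun x => ?_
    obtain ⟨i, hi⟩ := hj x
    exact ⟨(j i).opensRange, hi, isAffineOpen_opensRange _, noEmb_of_equiv (rangeEquiv (j i)) (h i)⟩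

variable {k : Type u} [Field k]

theorem exists_algebra {R : CommRingCat.{u}} (h : Spec R ⟶ Spec (CommRingCat.of k)) :
    ∃ a : Algebra k R, h = Spec.map (CommRingCat.ofHom (@algebraMap k R _ _ a)) := by
  obtain ⟨φ, rfl⟩ := Spec.map_surjective h
  exact ⟨φ.hom.toAlgebra, rfl⟩

theorem isNoetherianRing_of_isOpenImmersion [IsLocallyNoetherian X] {R : CommRingCat.{u}} (j : Spec R ⟶ X)
    [IsOpenImmersion j] : IsNoetherianRing R :=
  haveI := isLocallyNoetherian_of_isOpenImmersion j
  isLocallyNoetherian_Spec.1 inferInstance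

theorem exists_nbhd {Y : Scheme.{u}} {A B : CommRingCat.{u}} (jA : Spec A ⟶ X) (jB : Spec B ⟶ Y)
    [IsOpenImmersion jA] [IsOpenImmersion jB] (f : X ⟶ Spec (CommRingCat.of k))
    (g : Y ⟶ Spec (CommRingCat.of k)) [IsIntegral X] [IsIntegral Y] [IsLocallyNoetherian (pullback f g)]
    (z : ↥(pullback f g)) (w : ↥(pullback (jA ≫ f) (jB ≫ g))) (m : pullback (jA ≫ f) (jB ≫ g) ⟶ pullback f g)
    [IsOpenImmersion m] (hw : m w = z) :
    ∃ V : (pullback f g).Opens, z ∈ V ∧ IsAffineOpen V ∧ NoEmb Γ(pullback f g, V) := by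
  obtain ⟨a, ha⟩ := exists_algebra (jA ≫ f)
  obtain ⟨b, hb⟩ := exists_algebra (jB ≫ g)
  haveI : Nonempty ↥(Spec A) := ⟨pullback.fst (jA ≫ f) (jB ≫ g) w⟩
  haveI : Nonempty ↥(Spec B) := ⟨pullback.snd (jA ≫ f) (jB ≫ g) w⟩
  haveI : IsDomain A := (affine_isIntegral_iff A).1 (isIntegral_of_isOpenImmersion jA)
  haveI : IsDomain B := (affine_isIntegral_iff B).1 (isIntegral_of_isOpenImmersion jB)
  let e : pullback (jA ≫ f) (jB ≫ g) ≅ Spec (CommRingCat.of (A ⊗[k] B)) :=
    pullback.congrHom ha hb ≪≫ pullbackSpecIso k A B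
  let j := e.inv ≫ m
  haveI : IsNoetherianRing (A ⊗[k] B) := isNoetherianRing_of_isOpenImmersion j
  refine ⟨j.opensRange, ⟨e.hom w, ?_⟩, isAffineOpen_opensRange j, noEmb_of_equiv (rangeEquiv j) (noEmb_tensor A B)⟩
  rw [← Scheme.Hom.comp_apply, show e.hom ≫ j = m from e.hom_inv_id_assoc m, hw]

theorem noEmbedded_pullback {Y : Scheme.{u}} (f : X ⟶ Spec (CommRingCat.of k))
    (g : Y ⟶ Spec (CommRingCat.of k)) [IsIntegral X] [IsIntegral Y] [IsLocallyNoetherian (pullback f g)] :
    AssSch.NoEmbedded (Coh.structureModule (pullback f g)) := by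
  refine noEmbedded_of_noEmb fun z => ?_
  let 𝒰 := Scheme.Pullback.openCoverOfLeftRight X.affineOpenCover.openCover Y.affineOpenCover.openCover f g
  obtain ⟨i, w, hw⟩ := 𝒰.exists_eq z
  exact exists_nbhd (X.affineOpenCover.f i.1) (Y.affineOpenCover.f i.2) f g z w (𝒰.f i) hw

variable {K : Type u} [Field K] [Algebra k K]

theorem exists_piece (f : X ⟶ Spec (CommRingCat.of k)) [IsLocallyNoetherian X]
    [IsLocallyNoetherian ↑(pullback f (Spec.map (CommRingCat.ofHom (algebraMap k K))))]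
    {A : CommRingCat.{u}} (j : Spec A ⟶ X) [IsOpenImmersion j] :
    ∃ (R : CommRingCat.{u}) (j' : Spec R ⟶ pullback f (Spec.map (CommRingCat.ofHom (algebraMap k K)))),
      IsOpenImmersion j' ∧
      Set.range j' = ⇑(pullback.fst f (Spec.map (CommRingCat.ofHom (algebraMap k K)))) ⁻¹' Set.range j ∧
      (NoEmb A ↔ NoEmb R) := by
  let g := Spec.map (CommRingCat.ofHom (algebraMap k K))
  obtain ⟨a, ha⟩ := exists_algebra (j ≫ f)
  let e : pullback j (pullback.fst f g) ≅ Spec (CommRingCat.of (A ⊗[k] K)) :=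
    pullbackRightPullbackFstIso f g j ≪≫ pullback.congrHom ha rfl ≪≫ pullbackSpecIso k A K
  haveI : IsOpenImmersion (pullback.snd j (pullback.fst f g)) := inferInstance
  let j' := e.inv ≫ pullback.snd j (pullback.fst f g)
  haveI : IsNoetherianRing A := isNoetherianRing_of_isOpenImmersion j
  haveI : IsNoetherianRing (A ⊗[k] K) := isNoetherianRing_of_isOpenImmersion j'
  refine ⟨_, j', inferInstance, ?_, noEmb_iff A K⟩
  rw [Scheme.Hom.comp_base, TopCat.coe_comp, Set.range_comp, Set.range_eq_univ.2 e.inv.surjective,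
    Set.image_univ]
  exact Scheme.Pullback.range_snd j (pullback.fst f g)

theorem noEmbedded_baseChange_iff (f : X ⟶ Spec (CommRingCat.of k)) [IsLocallyNoetherian X]
    [IsLocallyNoetherian ↑(pullback f (Spec.map (CommRingCat.ofHom (algebraMap k K))))] :
    AssSch.NoEmbedded (Coh.structureModule X) ↔
      AssSch.NoEmbedded (Coh.structureModule ↑(pullback f (Spec.map (CommRingCat.ofHom (algebraMap k K))))) := by
  choose R j' hj' hrange hiff using fun i => exists_piece (K := K) f (X.affineOpenCover.f i)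
  haveI := hj'
  rw [noEmbedded_iff_of_cover _ X.affineOpenCover.f (fun x => ⟨_, X.affineOpenCover.covers x⟩),
    noEmbedded_iff_of_cover R j' fun z => ⟨X.affineOpenCover.idx (pullback.fst f _ z), by
      rw [hrange]; exact X.affineOpenCover.covers _⟩]
  exact forall_congr' hiff

end Groth.Agent.AssField
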